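import Mathlib
import Groth.Prelude.Def_W4c6intromoduliQuartic

set_option autoImplicit false
set_option linter.unusedSectionVars false
set_option linter.unusedVariables false
set_option linter.unusedSimpArgs false
set_option linter.style.haveILetI false
set_option maxHeartbeats 1000000

universe u

open W4c6intromoduli

namespace Groth.Agent.Lib.Helper6.Quartic

section coef

variable {R : Type u} [CommRing R]

lemma rootPoly_eq (la mu : Fin 4 → R) :
    rootPoly la mu =
      Polynomial.C (mu 0 * mu 1 * mu 2 * mu 3)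
      + Polynomial.C (-(la 0 * mu 1 * mu 2 * mu 3 + mu 0 * la 1 * mu 2 * mu 3
          + mu 0 * mu 1 * la 2 * mu 3 + mu 0 * mu 1 * mu 2 * la 3)) * Polynomial.X
      + Polynomial.C (la 0 * la 1 * mu 2 * mu 3 + la 0 * mu 1 * la 2 * mu 3
          + la 0 * mu 1 * mu 2 * la 3 + mu 0 * la 1 * la 2 * mu 3 + mu 0 * la 1 * mu 2 * la 3
          + mu 0 * mu 1 * la 2 * la 3) * Polynomial.X ^ 2
      + Polynomial.C (-(la 0 * la 1 * la 2 * mu 3 + la 0 * la 1 * mu 2 * la 3
          + la 0 * mu 1 * la 2 * la 3 + mu 0 * la 1 * la 2 * la 3)) * Polynomial.X ^ 3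
      + Polynomial.C (la 0 * la 1 * la 2 * la 3) * Polynomial.X ^ 4 := by
  simp only [rootPoly, Fin.prod_univ_four, map_add, map_mul, map_neg]
  ring

lemma coeff_quartic (a0 a1 a2 a3 a4 : R) :
    let f := Polynomial.C a0 + Polynomial.C a1 * Polynomial.X + Polynomial.C a2 * Polynomial.X ^ 2
      + Polynomial.C a3 * Polynomial.X ^ 3 + Polynomial.C a4 * Polynomial.X ^ 4
    f.coeff 0 = a0 ∧ f.coeff 1 = a1 ∧ f.coeff 2 = a2 ∧ f.coeff 3 = a3 ∧ f.coeff 4 = a4 := by
  intro f
  simp only [f]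
  refine ⟨?_, ?_, ?_, ?_, ?_⟩ <;>
  simp [Polynomial.coeff_X_pow, Polynomial.coeff_X, Polynomial.coeff_C]

lemma coef_0 (la mu : Fin 4 → R) : coef la mu 0 = mu 0 * mu 1 * mu 2 * mu 3 := by
  rw [coef, rootPoly_eq]; exact (coeff_quartic _ _ _ _ _).1

lemma coef_1 (la mu : Fin 4 → R) : coef la mu 1 =
    -(la 0 * mu 1 * mu 2 * mu 3 + mu 0 * la 1 * mu 2 * mu 3
          + mu 0 * mu 1 * la 2 * mu 3 + mu 0 * mu 1 * mu 2 * la 3) := by
  rw [coef, rootPoly_eq]; exact (coeff_quartic _ _ _ _ _).2.1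

lemma coef_2 (la mu : Fin 4 → R) : coef la mu 2 =
    la 0 * la 1 * mu 2 * mu 3 + la 0 * mu 1 * la 2 * mu 3
          + la 0 * mu 1 * mu 2 * la 3 + mu 0 * la 1 * la 2 * mu 3 + mu 0 * la 1 * mu 2 * la 3
          + mu 0 * mu 1 * la 2 * la 3 := by
  rw [coef, rootPoly_eq]; exact (coeff_quartic _ _ _ _ _).2.2.1

lemma coef_3 (la mu : Fin 4 → R) : coef la mu 3 =
    -(la 0 * la 1 * la 2 * mu 3 + la 0 * la 1 * mu 2 * la 3
          + la 0 * mu 1 * la 2 * la 3 + mu 0 * la 1 * la 2 * la 3) := by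
  rw [coef, rootPoly_eq]; exact (coeff_quartic _ _ _ _ _).2.2.2.1

lemma coef_4 (la mu : Fin 4 → R) : coef la mu 4 = la 0 * la 1 * la 2 * la 3 := by
  rw [coef, rootPoly_eq]; exact (coeff_quartic _ _ _ _ _).2.2.2.2

/-- The `2 × 2` minors of the root points. -/
def dd (la mu : Fin 4 → R) (i j : Fin 4) : R := la i * mu j - la j * mu i

/-- The three products of complementary minors. -/
def qA (la mu : Fin 4 → R) : R := dd la mu 0 1 * dd la mu 2 3
def qB (la mu : Fin 4 → R) : R := dd la mu 0 2 * dd la mu 3 1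
def qC (la mu : Fin 4 → R) : R := dd la mu 0 3 * dd la mu 1 2

lemma qsum (la mu : Fin 4 → R) : qA la mu + qB la mu + qC la mu = 0 := by
  simp only [qA, qB, qC, dd]; ring

lemma invI_eq (la mu : Fin 4 → R) :
    invI (coef la mu) = -(qA la mu * qB la mu + qB la mu * qC la mu + qC la mu * qA la mu) := by
  simp only [invI, coef_0, coef_1, coef_2, coef_3, coef_4, qA, qB, qC, dd]; ring

lemma invJ_eq (la mu : Fin 4 → R) :
    invJ (coef la mu) =
      (qA la mu - qB la mu) * (qB la mu - qC la mu) * (qC la mu - qA la mu) := by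
  simp only [invJ, coef_0, coef_1, coef_2, coef_3, coef_4, qA, qB, qC, dd]; ring

lemma disc_eq (la mu : Fin 4 → R) :
    disc la mu = (qA la mu * qB la mu * qC la mu) ^ 2 := by
  simp only [disc, Finset.prod_filter, Fintype.prod_prod_type, Fin.prod_univ_four, qA, qB, qC, dd]
  simp
  ring

end coef

end Groth.Agent.Lib.Helper6.Quartic
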