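import Mathlib
import Groth.Agent.Lib.Helper6.Quartic.OrbitA

set_option autoImplicit false
set_option linter.unusedSectionVars false
set_option linter.unusedVariables false
set_option linter.unusedSimpArgs false
set_option linter.style.haveILetI false
set_option maxHeartbeats 1000000

universe u

open W4c6intromoduli

namespace Groth.Agent.Lib.Helper6.Quartic

variable {k : Type u} [Field k]

/-! ### Abstract algebra on the triple `(A, B, C)` -/

lemma sq_diff_prod (A B C : k) (h : A + B + C = 0) :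
    ((A - B) * (B - C) * (C - A)) ^ 2 =
      -4 * (A * B + B * C + C * A) ^ 3 - 27 * (A * B * C) ^ 2 := by
  obtain rfl : C = -A - B := by linear_combination h
  ring

/-- If `A' = s A` then `(B', C')` is `(s B, s C)` or `(s C, s B)`. -/
lemma triple_step (A B C A' B' C' s : k) (h : A + B + C = 0) (h' : A' + B' + C' = 0)
    (hA' : A' ≠ 0) (hq : A' * B' * C' = s ^ 3 * (A * B * C)) (hA : A' = s * A) :
    (B' = s * B ∧ C' = s * C) ∨ (B' = s * C ∧ C' = s * B) := by
  have hs : s ≠ 0 := by
    rintro rfl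
    apply hA'
    rw [hA, zero_mul]
  have hsum : B' + C' = s * (B + C) := by linear_combination h' - hA - s * h
  have hprod : B' * C' = s ^ 2 * (B * C) := by
    have : A' * (B' * C') = A' * (s ^ 2 * (B * C)) := by
      rw [hA] at hq ⊢
      linear_combination hq
    exact mul_left_cancel₀ hA' this
  have hz : (B' - s * B) * (B' - s * C) = 0 := by
    linear_combination B' * hsum - hprod
  rcases mul_eq_zero.mp hz with h1 | h1
  · left
    have hB : B' = s * B := by linear_combination h1
    exact ⟨hB, by linear_combination hsum - hB⟩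
  · right
    have hB : B' = s * C := by linear_combination h1
    exact ⟨hB, by linear_combination hsum - hB⟩

lemma scalar_exists (P Q P' Q' : k) (hP : P ≠ 0) (hQ : Q ≠ 0) (hP' : P' ≠ 0) (hQ' : Q' ≠ 0)
    (hpq : P ^ 3 * Q' ^ 2 = P' ^ 3 * Q ^ 2) :
    ∃ s : k, s ≠ 0 ∧ P' = s ^ 2 * P ∧ Q' = s ^ 3 * Q := by
  refine ⟨Q' * P / (Q * P'), div_ne_zero (mul_ne_zero hQ' hP) (mul_ne_zero hQ hP'), ?_, ?_⟩
  · field_simp
    linear_combination (-1 : k) * hpq
  · field_simp
    linear_combination (-1 : k) * hpq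

/-- Two triples with sum zero, nonzero product and proportional `(p³, q²)` differ by a permutation
and a nonzero scalar. -/
lemma triple_perm (A B C A' B' C' : k) (h : A + B + C = 0) (h' : A' + B' + C' = 0)
    (hq : A * B * C ≠ 0) (hq' : A' * B' * C' ≠ 0)
    (hpq : (A * B + B * C + C * A) ^ 3 * (A' * B' * C') ^ 2 =
      (A' * B' + B' * C' + C' * A') ^ 3 * (A * B * C) ^ 2) :
    ∃ s : k, s ≠ 0 ∧
      ((A' = s * A ∧ B' = s * B ∧ C' = s * C) ∨ (A' = s * A ∧ B' = s * C ∧ C' = s * B) ∨
       (A' = s * B ∧ B' = s * C ∧ C' = s * A) ∨ (A' = s * B ∧ B' = s * A ∧ C' = s * C) ∨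
       (A' = s * C ∧ B' = s * A ∧ C' = s * B) ∨ (A' = s * C ∧ B' = s * B ∧ C' = s * A)) := by
  have hA0 : A ≠ 0 := fun h0 => hq (by rw [h0]; ring)
  have hA'0 : A' ≠ 0 := fun h0 => hq' (by rw [h0]; ring)
  -- the scalar
  have hs : ∃ s : k, s ≠ 0 ∧ A' * B' + B' * C' + C' * A' = s ^ 2 * (A * B + B * C + C * A) ∧
      A' * B' * C' = s ^ 3 * (A * B * C) := by
    by_cases hp : A * B + B * C + C * A = 0
    · have hp' : A' * B' + B' * C' + C' * A' = 0 := by
        rw [hp] at hpq
        have : (A' * B' + B' * C' + C' * A') ^ 3 * (A * B * C) ^ 2 = 0 := by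
          rw [← hpq]; ring
        rcases mul_eq_zero.mp this with h1 | h1
        · exact pow_eq_zero_iff (by norm_num) |>.mp h1
        · exact absurd (pow_eq_zero_iff (by norm_num) |>.mp h1) hq
      have h3 : A ^ 3 = A * B * C := by linear_combination (-A) * hp + A ^ 2 * h
      have h3' : A' ^ 3 = A' * B' * C' := by linear_combination (-A') * hp' + A' ^ 2 * h'
      refine ⟨A' / A, div_ne_zero hA'0 hA0, ?_, ?_⟩
      · rw [hp, hp']; ring
      · rw [← h3, ← h3']
        field_simp
    · have hp' : A' * B' + B' * C' + C' * A' ≠ 0 := by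
        intro h0
        rw [h0] at hpq
        have : (A * B + B * C + C * A) ^ 3 * (A' * B' * C') ^ 2 = 0 := by
          rw [hpq]; ring
        rcases mul_eq_zero.mp this with h1 | h1
        · exact hp (pow_eq_zero_iff (by norm_num) |>.mp h1)
        · exact hq' (pow_eq_zero_iff (by norm_num) |>.mp h1)
      exact scalar_exists _ _ _ _ hp hq hp' hq' hpq
  obtain ⟨s, hs0, hp, hqq⟩ := hs
  refine ⟨s, hs0, ?_⟩
  -- `A'` is a root of the scaled cubic
  have hroot : (A' - s * A) * (A' - s * B) * (A' - s * C) = 0 := by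
    linear_combination (-(s * A' ^ 2)) * h + (A' ^ 2) * h' - A' * hp + hqq
  rcases mul_eq_zero.mp hroot with h1 | h1
  · rcases mul_eq_zero.mp h1 with h2 | h2
    · have hA : A' = s * A := by linear_combination h2
      rcases triple_step A B C A' B' C' s h h' hA'0 hqq hA with ⟨hb, hc⟩ | ⟨hb, hc⟩
      · exact Or.inl ⟨hA, hb, hc⟩
      · exact Or.inr (Or.inl ⟨hA, hb, hc⟩)
    · have hA : A' = s * B := by linear_combination h2
      rcases triple_step B C A A' B' C' s (by linear_combination h) h' hA'0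
        (by linear_combination hqq) hA with ⟨hb, hc⟩ | ⟨hb, hc⟩
      · exact Or.inr (Or.inr (Or.inl ⟨hA, hb, hc⟩))
      · exact Or.inr (Or.inr (Or.inr (Or.inl ⟨hA, hb, hc⟩)))
  · have hA : A' = s * C := by linear_combination h1
    rcases triple_step C A B A' B' C' s (by linear_combination h) h' hA'0
      (by linear_combination hqq) hA with ⟨hb, hc⟩ | ⟨hb, hc⟩
    · exact Or.inr (Or.inr (Or.inr (Or.inr (Or.inl ⟨hA, hb, hc⟩))))
    · exact Or.inr (Or.inr (Or.inr (Or.inr (Or.inr ⟨hA, hb, hc⟩))))

end Groth.Agent.Lib.Helper6.Quartic
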