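import Mathlib
import Groth.Agent.Lib.Helper6.Quartic.OrbitB

set_option autoImplicit false
set_option linter.unusedSectionVars false
set_option linter.unusedVariables false
set_option linter.unusedSimpArgs false
set_option linter.style.haveILetI false
set_option maxHeartbeats 1000000

universe u

open W4c6intromoduli

namespace Groth.Agent.Lib.Helper6.Quartic

variable {k : Type u} [Field k]

/-- The equivalence relation (only used in one direction) of the statement. -/
def Rel (la mu la' mu' : Fin 4 → k) : Prop :=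
  ∃ (M : Matrix (Fin 2) (Fin 2) k) (c : k), IsUnit M.det ∧ c ≠ 0 ∧
      binForm la' mu' = MvPolynomial.C c * subst M (binForm la mu)

lemma subst_factor (M : Matrix (Fin 2) (Fin 2) k) (l m l' m' c : k)
    (h1 : m * M 0 0 - l * M 1 0 = c * m') (h2 : l * M 1 1 - m * M 0 1 = c * l') :
    subst M (MvPolynomial.C m * MvPolynomial.X 0 - MvPolynomial.C l * MvPolynomial.X 1) =
      MvPolynomial.C c * (MvPolynomial.C m' * MvPolynomial.X 0 - MvPolynomial.C l' * MvPolynomial.X 1) := by
  have e1 : MvPolynomial.C (c * m') = MvPolynomial.C c * (MvPolynomial.C m' : MvPolynomial (Fin 2) k) :=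
    map_mul _ _ _
  have e2 : MvPolynomial.C (c * l') = MvPolynomial.C c * (MvPolynomial.C l' : MvPolynomial (Fin 2) k) :=
    map_mul _ _ _
  rw [mul_sub, ← mul_assoc, ← mul_assoc, ← e1, ← e2, ← h1, ← h2]
  simp only [subst, map_sub, map_mul, MvPolynomial.aeval_C, MvPolynomial.aeval_X, Fin.sum_univ_two,
    MvPolynomial.algebraMap_eq]
  ring

lemma subst_binForm (la mu la' mu' : Fin 4 → k) (M : Matrix (Fin 2) (Fin 2) k) (c : Fin 4 → k)
    (h1 : ∀ i, mu i * M 0 0 - la i * M 1 0 = c i * mu' i)
    (h2 : ∀ i, la i * M 1 1 - mu i * M 0 1 = c i * la' i) :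
    subst M (binForm la mu) = MvPolynomial.C (∏ i, c i) * binForm la' mu' := by
  simp only [binForm, map_prod]
  rw [← Finset.prod_mul_distrib]
  refine Finset.prod_congr rfl fun i _ => ?_
  exact subst_factor M _ _ _ _ _ (h1 i) (h2 i)

/-- A matrix carrying the root points of the first quartic to multiples of those of the second
realises the equivalence. -/
lemma rel_of_matrix (la mu la' mu' : Fin 4 → k) (n00 n01 n10 n11 : k)
    (hN : n00 * n11 - n01 * n10 ≠ 0)
    (hne : ∀ i, la i ≠ 0 ∨ mu i ≠ 0) (hne' : ∀ i, la' i ≠ 0 ∨ mu' i ≠ 0)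
    (hcross : ∀ i, (n00 * la i + n01 * mu i) * mu' i - (n10 * la i + n11 * mu i) * la' i = 0) :
    Rel la mu la' mu' := by
  have key : ∀ i, ∃ c : k, c ≠ 0 ∧ n00 * la i + n01 * mu i = c * la' i ∧
      n10 * la i + n11 * mu i = c * mu' i := by
    intro i
    have hv : n00 * la i + n01 * mu i ≠ 0 ∨ n10 * la i + n11 * mu i ≠ 0 := by
      by_contra hcon
      push Not at hcon
      obtain ⟨h0, h1⟩ := hcon
      have hl : (n00 * n11 - n01 * n10) * la i = 0 := by
        linear_combination n11 * h0 - n01 * h1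
      have hm : (n00 * n11 - n01 * n10) * mu i = 0 := by
        linear_combination n00 * h1 - n10 * h0
      rcases hne i with h | h
      · exact h ((mul_eq_zero.mp hl).resolve_left hN)
      · exact h ((mul_eq_zero.mp hm).resolve_left hN)
    have hc := hcross i
    rcases hne' i with h | h
    · refine ⟨(n00 * la i + n01 * mu i) / la' i, ?_, ?_, ?_⟩
      · intro h0
        have h00 : n00 * la i + n01 * mu i = 0 := by
          rcases div_eq_zero_iff.mp h0 with h1 | h1
          · exact h1
          · exact absurd h1 h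
        rw [h00] at hc
        have : (n10 * la i + n11 * mu i) * la' i = 0 := by linear_combination -hc
        rcases hv with hv | hv
        · exact hv h00
        · exact hv ((mul_eq_zero.mp this).resolve_right h)
      · field_simp
      · field_simp
        linear_combination -hc
    · refine ⟨(n10 * la i + n11 * mu i) / mu' i, ?_, ?_, ?_⟩
      · intro h0
        have h00 : n10 * la i + n11 * mu i = 0 := by
          rcases div_eq_zero_iff.mp h0 with h1 | h1
          · exact h1
          · exact absurd h1 h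
        rw [h00] at hc
        have : (n00 * la i + n01 * mu i) * mu' i = 0 := by linear_combination hc
        rcases hv with hv | hv
        · exact hv ((mul_eq_zero.mp this).resolve_right h)
        · exact hv h00
      · field_simp
        linear_combination hc
      · field_simp
  choose c hc0 hc1 hc2 using key
  have hprod : (∏ i, c i) ≠ 0 := Finset.prod_ne_zero_iff.mpr fun i _ => hc0 i
  refine ⟨!![n11, -n01; -n10, n00], (∏ i, c i)⁻¹, ?_, inv_ne_zero hprod, ?_⟩
  · rw [Matrix.det_fin_two_of, isUnit_iff_ne_zero]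
    intro h0
    apply hN
    linear_combination h0
  · rw [subst_binForm la mu la' mu' _ c, ← mul_assoc, ← map_mul, inv_mul_cancel₀ hprod, map_one,
      one_mul]
    · intro i
      simp only [Matrix.of_apply, Matrix.cons_val', Matrix.cons_val_zero, Matrix.cons_val_one,
        Matrix.cons_val_fin_one]
      linear_combination hc2 i
    · intro i
      simp only [Matrix.of_apply, Matrix.cons_val', Matrix.cons_val_zero, Matrix.cons_val_one,
        Matrix.cons_val_fin_one]
      linear_combination hc1 i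

/-- Core lemma: equal cross-ratios give equivalent quartics. -/
lemma rel_of_cross (la mu la' mu' : Fin 4 → k)
    (hne : ∀ i, la i ≠ 0 ∨ mu i ≠ 0) (hne' : ∀ i, la' i ≠ 0 ∨ mu' i ≠ 0)
    (hq : qA la mu * qB la mu * qC la mu ≠ 0) (hq' : qA la' mu' * qB la' mu' * qC la' mu' ≠ 0)
    (hBC : qB la mu * qC la' mu' = qB la' mu' * qC la mu) :
    Rel la mu la' mu' := by
  -- α = d'(2,1) d(0,2), β = d'(0,2) d(2,1)
  have hA : qA la mu ≠ 0 := left_ne_zero_of_mul (left_ne_zero_of_mul hq)
  have hB : qB la mu ≠ 0 := right_ne_zero_of_mul (left_ne_zero_of_mul hq)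
  have hC : qC la mu ≠ 0 := right_ne_zero_of_mul hq
  have hA' : qA la' mu' ≠ 0 := left_ne_zero_of_mul (left_ne_zero_of_mul hq')
  have hB' : qB la' mu' ≠ 0 := right_ne_zero_of_mul (left_ne_zero_of_mul hq')
  have hC' : qC la' mu' ≠ 0 := right_ne_zero_of_mul hq'
  have d01 : dd la mu 0 1 ≠ 0 := left_ne_zero_of_mul (show dd la mu 0 1 * dd la mu 2 3 ≠ 0 from hA)
  have d02 : dd la mu 0 2 ≠ 0 := left_ne_zero_of_mul (show dd la mu 0 2 * dd la mu 3 1 ≠ 0 from hB)
  have d12 : dd la mu 1 2 ≠ 0 := right_ne_zero_of_mul (show dd la mu 0 3 * dd la mu 1 2 ≠ 0 from hC)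
  have d01' : dd la' mu' 0 1 ≠ 0 :=
    left_ne_zero_of_mul (show dd la' mu' 0 1 * dd la' mu' 2 3 ≠ 0 from hA')
  have d02' : dd la' mu' 0 2 ≠ 0 :=
    left_ne_zero_of_mul (show dd la' mu' 0 2 * dd la' mu' 3 1 ≠ 0 from hB')
  have d12' : dd la' mu' 1 2 ≠ 0 :=
    right_ne_zero_of_mul (show dd la' mu' 0 3 * dd la' mu' 1 2 ≠ 0 from hC')
  have hdet : dd la' mu' 1 2 * dd la mu 0 2 * (dd la' mu' 0 2 * dd la mu 1 2) *
      (dd la' mu' 0 1 * dd la mu 0 1) ≠ 0 :=
    mul_ne_zero (mul_ne_zero (mul_ne_zero d12' d02) (mul_ne_zero d02' d12)) (mul_ne_zero d01' d01)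
  simp only [qB, qC] at hBC
  simp only [dd] at hdet hBC
  refine rel_of_matrix la mu la' mu'
    ((dd la' mu' 2 1 * dd la mu 0 2) * la' 0 * mu 1 - (dd la' mu' 0 2 * dd la mu 2 1) * la' 1 * mu 0)
    (-(dd la' mu' 2 1 * dd la mu 0 2) * la' 0 * la 1 + (dd la' mu' 0 2 * dd la mu 2 1) * la' 1 * la 0)
    ((dd la' mu' 2 1 * dd la mu 0 2) * mu' 0 * mu 1 - (dd la' mu' 0 2 * dd la mu 2 1) * mu' 1 * mu 0)
    (-(dd la' mu' 2 1 * dd la mu 0 2) * mu' 0 * la 1 + (dd la' mu' 0 2 * dd la mu 2 1) * mu' 1 * la 0)
    ?_ hne hne' ?_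
  · intro h0
    apply hdet
    simp only [dd] at h0
    linear_combination h0
  · intro i
    simp only [dd]
    fin_cases i
    · simp only [Fin.zero_eta]
      ring
    · simp only [Fin.mk_one]
      ring
    · simp only [Fin.reduceFinMk]
      ring
    · simp only [Fin.reduceFinMk]
      linear_combination (-1 : k) * hBC

end Groth.Agent.Lib.Helper6.Quartic
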