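import Mathlib
import Groth.Agent.Lib.Helper6.Quartic.OrbitC

set_option autoImplicit false
set_option linter.unusedSectionVars false
set_option linter.unusedVariables false
set_option linter.unusedSimpArgs false
set_option linter.style.haveILetI false
set_option maxHeartbeats 1000000

universe u

open W4c6intromoduli

namespace Groth.Agent.Lib.Helper6.Quartic

variable {k : Type u} [Field k]

/-- Reindexing of the root points. -/
def pm (σ : Fin 4 → Fin 4) (la : Fin 4 → k) : Fin 4 → k := fun i => la (σ i)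

lemma rel_of_cross' (la mu la2 mu2 la' mu' : Fin 4 → k)
    (hbin : binForm la2 mu2 = binForm la mu)
    (hne : ∀ i, la2 i ≠ 0 ∨ mu2 i ≠ 0) (hne' : ∀ i, la' i ≠ 0 ∨ mu' i ≠ 0)
    (hq : qA la2 mu2 * qB la2 mu2 * qC la2 mu2 ≠ 0)
    (hq' : qA la' mu' * qB la' mu' * qC la' mu' ≠ 0)
    (hBC : qB la2 mu2 * qC la' mu' = qB la' mu' * qC la2 mu2) :
    Rel la mu la' mu' := by
  obtain ⟨M, c, hM, hc, h⟩ := rel_of_cross la2 mu2 la' mu' hne hne' hq hq' hBC
  exact ⟨M, c, hM, hc, by rw [h, hbin]⟩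

theorem quartic_orbit (h3 : (3 : k) ≠ 0) (la mu la' mu' : Fin 4 → k)
    (hne : ∀ i, la i ≠ 0 ∨ mu i ≠ 0) (hne' : ∀ i, la' i ≠ 0 ∨ mu' i ≠ 0)
    (hd : disc la mu ≠ 0) (hd' : disc la' mu' ≠ 0)
    (h : invI (coef la mu) ^ 3 * invJ (coef la' mu') ^ 2 =
        invI (coef la' mu') ^ 3 * invJ (coef la mu) ^ 2) :
    Rel la mu la' mu' := by
  rw [disc_eq] at hd hd'
  have hq : qA la mu * qB la mu * qC la mu ≠ 0 := fun h0 => hd (by rw [h0]; ring)
  have hq' : qA la' mu' * qB la' mu' * qC la' mu' ≠ 0 := fun h0 => hd' (by rw [h0]; ring)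
  have hs := qsum la mu
  have hs' := qsum la' mu'
  rw [invI_eq, invI_eq, invJ_eq, invJ_eq, sq_diff_prod _ _ _ hs, sq_diff_prod _ _ _ hs'] at h
  have h27 : (27 : k) ≠ 0 := by
    have : (27 : k) = 3 ^ 3 := by norm_num
    rw [this]; exact pow_ne_zero 3 h3
  have hpq : (qA la mu * qB la mu + qB la mu * qC la mu + qC la mu * qA la mu) ^ 3 *
      (qA la' mu' * qB la' mu' * qC la' mu') ^ 2 =
      (qA la' mu' * qB la' mu' + qB la' mu' * qC la' mu' + qC la' mu' * qA la' mu') ^ 3 *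
      (qA la mu * qB la mu * qC la mu) ^ 2 := by
    apply mul_left_cancel₀ h27
    linear_combination h
  obtain ⟨s, hs0, hcases⟩ := triple_perm _ _ _ _ _ _ hs hs' hq hq' hpq
  rcases hcases with ⟨h1, h2, h3⟩ | ⟨h1, h2, h3⟩ | ⟨h1, h2, h3⟩ | ⟨h1, h2, h3⟩ | ⟨h1, h2, h3⟩ |
    ⟨h1, h2, h3⟩
  · -- identity
    exact rel_of_cross la mu la' mu' hne hne' hq hq' (by rw [h2, h3]; ring)
  · -- (A, C, B): swap points 0, 1
    have e1 : qA (pm ![1, 0, 2, 3] la) (pm ![1, 0, 2, 3] mu) = -qA la mu := by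
      simp [qA, dd, pm]; ring
    have e2 : qB (pm ![1, 0, 2, 3] la) (pm ![1, 0, 2, 3] mu) = -qC la mu := by
      simp [qB, qC, dd, pm]; ring
    have e3 : qC (pm ![1, 0, 2, 3] la) (pm ![1, 0, 2, 3] mu) = -qB la mu := by
      simp [qB, qC, dd, pm]; ring
    refine rel_of_cross' la mu (pm ![1, 0, 2, 3] la) (pm ![1, 0, 2, 3] mu) la' mu' ?_
      (fun i => hne _) hne' ?_ hq' ?_
    · simp only [binForm, Fin.prod_univ_four, pm, Matrix.cons_val]; ring
    · rw [e1, e2, e3]; intro h0; apply hq; linear_combination -h0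
    · rw [e2, e3, h2, h3]; ring
  · -- (B, C, A)
    have e1 : qA (pm ![2, 0, 1, 3] la) (pm ![2, 0, 1, 3] mu) = qB la mu := by
      simp [qA, qB, dd, pm]; ring
    have e2 : qB (pm ![2, 0, 1, 3] la) (pm ![2, 0, 1, 3] mu) = qC la mu := by
      simp [qB, qC, dd, pm]; ring
    have e3 : qC (pm ![2, 0, 1, 3] la) (pm ![2, 0, 1, 3] mu) = qA la mu := by
      simp [qA, qC, dd, pm]; ring
    refine rel_of_cross' la mu (pm ![2, 0, 1, 3] la) (pm ![2, 0, 1, 3] mu) la' mu' ?_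
      (fun i => hne _) hne' ?_ hq' ?_
    · simp only [binForm, Fin.prod_univ_four, pm, Matrix.cons_val]; ring
    · rw [e1, e2, e3]; intro h0; apply hq; linear_combination h0
    · rw [e2, e3, h2, h3]; ring
  · -- (B, A, C): swap points 1, 2
    have e1 : qA (pm ![0, 2, 1, 3] la) (pm ![0, 2, 1, 3] mu) = -qB la mu := by
      simp [qA, qB, dd, pm]; ring
    have e2 : qB (pm ![0, 2, 1, 3] la) (pm ![0, 2, 1, 3] mu) = -qA la mu := by
      simp [qA, qB, dd, pm]; ring
    have e3 : qC (pm ![0, 2, 1, 3] la) (pm ![0, 2, 1, 3] mu) = -qC la mu := by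
      simp [qC, dd, pm]; ring
    refine rel_of_cross' la mu (pm ![0, 2, 1, 3] la) (pm ![0, 2, 1, 3] mu) la' mu' ?_
      (fun i => hne _) hne' ?_ hq' ?_
    · simp only [binForm, Fin.prod_univ_four, pm, Matrix.cons_val]; ring
    · rw [e1, e2, e3]; intro h0; apply hq; linear_combination -h0
    · rw [e2, e3, h2, h3]; ring
  · -- (C, A, B)
    have e1 : qA (pm ![1, 2, 0, 3] la) (pm ![1, 2, 0, 3] mu) = qC la mu := by
      simp [qA, qC, dd, pm]; ring
    have e2 : qB (pm ![1, 2, 0, 3] la) (pm ![1, 2, 0, 3] mu) = qA la mu := by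
      simp [qA, qB, dd, pm]; ring
    have e3 : qC (pm ![1, 2, 0, 3] la) (pm ![1, 2, 0, 3] mu) = qB la mu := by
      simp [qB, qC, dd, pm]; ring
    refine rel_of_cross' la mu (pm ![1, 2, 0, 3] la) (pm ![1, 2, 0, 3] mu) la' mu' ?_
      (fun i => hne _) hne' ?_ hq' ?_
    · simp only [binForm, Fin.prod_univ_four, pm, Matrix.cons_val]; ring
    · rw [e1, e2, e3]; intro h0; apply hq; linear_combination h0
    · rw [e2, e3, h2, h3]; ring
  · -- (C, B, A): swap points 0, 2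
    have e1 : qA (pm ![2, 1, 0, 3] la) (pm ![2, 1, 0, 3] mu) = -qC la mu := by
      simp [qA, qC, dd, pm]; ring
    have e2 : qB (pm ![2, 1, 0, 3] la) (pm ![2, 1, 0, 3] mu) = -qB la mu := by
      simp [qB, dd, pm]; ring
    have e3 : qC (pm ![2, 1, 0, 3] la) (pm ![2, 1, 0, 3] mu) = -qA la mu := by
      simp [qA, qC, dd, pm]; ring
    refine rel_of_cross' la mu (pm ![2, 1, 0, 3] la) (pm ![2, 1, 0, 3] mu) la' mu' ?_
      (fun i => hne _) hne' ?_ hq' ?_
    · simp only [binForm, Fin.prod_univ_four, pm, Matrix.cons_val]; ring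
    · rw [e1, e2, e3]; intro h0; apply hq; linear_combination -h0
    · rw [e2, e3, h2, h3]; ring

end Groth.Agent.Lib.Helper6.Quartic
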